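import Mathlib.Algebra.Ring.Basic
import Mathlib.Algebra.Group.Units.Hom
import Mathlib.Tactic.Ring
import Mathlib.Tactic.LinearCombination
import Mathlib.Tactic.Group

/-!
Group-theoretic consequences of the rank-one commutation rule, at the level of the points over one ring.
-/

namespace GrothLib.RankOne

/-- A pair of one-parameter subgroups with a torus and the commutation rule. -/
structure Datum (A : Type*) [CommRing A] (Ti : Type*) [Group Ti] (P : Type*) [Group P] where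
  u : A → P
  v : A → P
  u_add : ∀ a b, u (a + b) = u a * u b
  v_add : ∀ a b, v (a + b) = v a * v b
  i : Ti →* P
  χ : Ti →* Aˣ
  conjU : ∀ t a, i t * u a * (i t)⁻¹ = u (χ t * a)
  conjV : ∀ t a, i t * v a * (i t)⁻¹ = v (((χ t)⁻¹ : Aˣ) * a)
  av : Aˣ →* Ti
  χav : ∀ z, χ (av z) = z * z
  rule : ∀ (a b : A) (z : Aˣ), (z : A) = 1 + a * b →
    u a * v b = v (b * (z⁻¹ : Aˣ)) * i (av z) * u (a * (z⁻¹ : Aˣ))

namespace Datum

variable {A : Type*} [CommRing A] {Ti : Type*} [Group Ti] {P : Type*} [Group P] (D : Datum A Ti P)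

/-- The coroot, valued in `P`. -/
def C : Aˣ →* P := D.i.comp D.av

theorem u_zero : D.u 0 = 1 := by
  have h := D.u_add 0 0
  rw [add_zero] at h
  exact left_eq_mul.mp h

theorem v_zero : D.v 0 = 1 := by
  have h := D.v_add 0 0
  rw [add_zero] at h
  exact left_eq_mul.mp h

theorem u_neg (a : A) : D.u (-a) = (D.u a)⁻¹ := by
  apply eq_inv_of_mul_eq_one_left
  rw [← D.u_add, neg_add_cancel, D.u_zero]

theorem v_neg (a : A) : D.v (-a) = (D.v a)⁻¹ := by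
  apply eq_inv_of_mul_eq_one_left
  rw [← D.v_add, neg_add_cancel, D.v_zero]

theorem u_u (a b : A) (x : P) : D.u a * (D.u b * x) = D.u (a + b) * x := by
  rw [D.u_add, mul_assoc]

theorem v_v (a b : A) (x : P) : D.v a * (D.v b * x) = D.v (a + b) * x := by
  rw [D.v_add, mul_assoc]

theorem i_u (t : Ti) (a : A) : D.i t * D.u a = D.u (D.χ t * a) * D.i t := by
  rw [← D.conjU, inv_mul_cancel_right]

theorem u_i (t : Ti) (a : A) : D.u a * D.i t = D.i t * D.u (((D.χ t)⁻¹ : Aˣ) * a) := by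
  rw [D.i_u, Units.mul_inv_cancel_left]

theorem i_v (t : Ti) (a : A) : D.i t * D.v a = D.v (((D.χ t)⁻¹ : Aˣ) * a) * D.i t := by
  rw [← D.conjV, inv_mul_cancel_right]

theorem v_i (t : Ti) (a : A) : D.v a * D.i t = D.i t * D.v (D.χ t * a) := by
  rw [D.i_v, Units.inv_mul_cancel_left]

theorem χ_av_val (z : Aˣ) : (D.χ (D.av z) : A) = z * z := by rw [D.χav, Units.val_mul]

theorem χ_av_inv_val (z : Aˣ) : (((D.χ (D.av z))⁻¹ : Aˣ) : A) = (z⁻¹ : Aˣ) * (z⁻¹ : Aˣ) := by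
  rw [D.χav, mul_inv, Units.val_mul]

theorem C_u (z : Aˣ) (a : A) : D.C z * D.u a = D.u (z * z * a) * D.C z := by
  rw [← D.χ_av_val]; exact D.i_u _ _

theorem u_C (z : Aˣ) (a : A) : D.u a * D.C z = D.C z * D.u ((z⁻¹ : Aˣ) * (z⁻¹ : Aˣ) * a) := by
  rw [← D.χ_av_inv_val]; exact D.u_i _ _

theorem C_v (z : Aˣ) (a : A) : D.C z * D.v a = D.v ((z⁻¹ : Aˣ) * (z⁻¹ : Aˣ) * a) * D.C z := by
  rw [← D.χ_av_inv_val]; exact D.i_v _ _

theorem v_C (z : Aˣ) (a : A) : D.v a * D.C z = D.C z * D.v (z * z * a) := by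
  rw [← D.χ_av_val]; exact D.v_i _ _

theorem rule' (a b : A) (z : Aˣ) (h : (z : A) = 1 + a * b) :
    D.u a * D.v b = D.v (b * (z⁻¹ : Aˣ)) * D.C z * D.u (a * (z⁻¹ : Aˣ)) := D.rule a b z h

theorem rule_swap (a b : A) (z : Aˣ) (h : (z : A) = 1 + a * b) :
    D.v b * D.u a = D.u (a * (z⁻¹ : Aˣ)) * (D.C z)⁻¹ * D.v (b * (z⁻¹ : Aˣ)) := by
  have h1 := D.rule' (-a) (-b) z (by rw [h]; ring)
  rw [D.u_neg, D.v_neg, neg_mul, neg_mul, D.u_neg, D.v_neg] at h1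
  have h2 := congrArg (·⁻¹) h1
  simp only [mul_inv_rev, inv_inv] at h2
  rw [h2, mul_assoc]

theorem cell_mul (x y x' y' : A) (t t' : Ti) (z : Aˣ) (h : (z : A) = 1 + x * y') :
    (D.v y * D.i t * D.u x) * (D.v y' * D.i t' * D.u x') =
      D.v (y + ((D.χ t)⁻¹ : Aˣ) * (y' * (z⁻¹ : Aˣ))) * D.i (t * D.av z * t') *
        D.u (((D.χ t')⁻¹ : Aˣ) * (x * (z⁻¹ : Aˣ)) + x') := by
  have e1 : (D.v y * D.i t * D.u x) * (D.v y' * D.i t' * D.u x') =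
      D.v y * D.i t * (D.u x * D.v y') * D.i t' * D.u x' := by group
  have e2 : D.v y * D.i t * (D.v (y' * (z⁻¹ : Aˣ)) * D.C z * D.u (x * (z⁻¹ : Aˣ))) * D.i t' * D.u x' =
      D.v y * (D.i t * D.v (y' * (z⁻¹ : Aˣ))) * D.C z * (D.u (x * (z⁻¹ : Aˣ)) * D.i t') * D.u x' := by group
  rw [e1, D.rule' x y' z h, e2, D.i_v, D.u_i, D.v_add, D.u_add, map_mul, map_mul]
  simp only [C, MonoidHom.coe_comp, Function.comp_apply, mul_assoc]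

theorem C_eq (z : Aˣ) : D.C z =
    D.v ((z⁻¹ : Aˣ) * (1 - z)) * D.u 1 * D.v ((z : A) - 1) * D.u (-(z⁻¹ : Aˣ)) := by
  rw [mul_assoc (D.v _) (D.u 1), D.rule' 1 (z - 1) z (by ring)]
  have : D.v ((z⁻¹ : Aˣ) * (1 - z)) * (D.v ((z - 1) * (z⁻¹ : Aˣ)) * D.C z * D.u (1 * (z⁻¹ : Aˣ))) *
      D.u (-(z⁻¹ : Aˣ)) = D.v ((z⁻¹ : Aˣ) * (1 - z) + (z - 1) * (z⁻¹ : Aˣ)) * D.C z *
      D.u (1 * (z⁻¹ : Aˣ) + -(z⁻¹ : Aˣ)) := by rw [D.v_add, D.u_add]; group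
  rw [this, one_mul, add_neg_cancel, D.u_zero, mul_one,
    show (z⁻¹ : Aˣ) * (1 - (z : A)) + (z - 1) * (z⁻¹ : Aˣ) = 0 by ring, D.v_zero, one_mul]

/-- The Weyl element. -/
def w (x : Aˣ) : P := D.u x * D.v (-(x⁻¹ : Aˣ)) * D.u x

theorem w_neg (x : Aˣ) : D.w (-x) = (D.w x)⁻¹ := by
  simp only [w, Units.val_neg, inv_neg, neg_neg, D.u_neg, D.v_neg, mul_inv_rev, inv_inv, mul_assoc]

theorem w_mul_left (z x : Aˣ) : D.w (z * x) = D.C z * D.w x := by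
  have hz : (z : A) * (z⁻¹ : Aˣ) = 1 := z.mul_inv
  have hx : (x : A) * (x⁻¹ : Aˣ) = 1 := x.mul_inv
  rw [← mul_inv_eq_iff_eq_mul]
  have e1 : D.w (z * x) * (D.w x)⁻¹ =
      D.u (z * x) * D.v (-((z * x)⁻¹ : Aˣ)) * (D.u (z * x + -x) * D.v (x⁻¹ : Aˣ)) * D.u (-x) := by
    simp only [w, D.u_add, D.u_neg, D.v_neg, Units.val_mul, mul_inv_rev, inv_inv]
    group
  have e2 : ∀ p q r s t : P, D.u (z * x) * p * (q * r * s) * t = D.u (z * x) * (p * q) * r * (s * t) :=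
    fun p q r s t => by group
  rw [e1, D.rule' (z * x + -x) (x⁻¹ : Aˣ) z (by linear_combination (1 - (z : A)) * hx), e2, ← D.v_add,
    ← D.u_add, show -(((z * x)⁻¹ : Aˣ) : A) + (x⁻¹ : Aˣ) * (z⁻¹ : Aˣ) = 0 by
      rw [mul_inv, Units.val_mul]; ring,
    D.v_zero, mul_one, D.u_C, mul_assoc, ← D.u_add,
    show (z⁻¹ : Aˣ) * (z⁻¹ : Aˣ) * ((z : A) * x) + ((z * x + -x) * (z⁻¹ : Aˣ) + -x) = 0 by
      linear_combination (x * (z⁻¹ : Aˣ) + x) * hz,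
    D.u_zero, mul_one]

theorem w_mul_right (z x : Aˣ) : D.w (z * x) = D.w x * (D.C z)⁻¹ := by
  have hz : (z : A) * (z⁻¹ : Aˣ) = 1 := z.mul_inv
  have hx : (x : A) * (x⁻¹ : Aˣ) = 1 := x.mul_inv
  rw [← inv_mul_eq_iff_eq_mul, ← map_inv]
  have e1 : (D.w x)⁻¹ * D.w (z * x) =
      D.u (-x) * D.v (x⁻¹ : Aˣ) * (D.u (z * x + -x) * D.v (-((z * x)⁻¹ : Aˣ))) * D.u (z * x) := by
    have hc : D.u ((z : A) * x + -x) = D.u (-x) * D.u (z * x) := by rw [← D.u_add, add_comm]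
    simp only [w, hc, D.u_neg, D.v_neg, Units.val_mul, mul_inv_rev, inv_inv]
    group
  have e2 : ∀ p q r s t : P, D.u (-x) * p * (q * r * s) * t = D.u (-x) * (p * q) * r * (s * t) :=
    fun p q r s t => by group
  rw [e1, D.rule' (z * x + -x) (-((z * x)⁻¹ : Aˣ)) z⁻¹ (by
      rw [mul_inv, Units.val_mul]
      linear_combination (z - 1) * (z⁻¹ : Aˣ) * hx + hz), e2, ← D.v_add,
    ← D.u_add, inv_inv, show ((x⁻¹ : Aˣ) : A) + -((z * x)⁻¹ : Aˣ) * z = 0 by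
      rw [mul_inv, Units.val_mul]; linear_combination -(x⁻¹ : Aˣ) * hz,
    D.v_zero, mul_one, D.u_C, mul_assoc, ← D.u_add, inv_inv,
    show (z : A) * z * -x + ((z * x + -x) * z + z * x) = 0 by ring,
    D.u_zero, mul_one]

theorem conj_w (t : Ti) (x : Aˣ) : D.i t * D.w x * (D.i t)⁻¹ = D.w (D.χ t * x) := by
  simp only [w, Units.val_mul, mul_inv]
  rw [← mul_neg, ← D.conjV, ← D.conjU]
  group

theorem w_conj_i (x : Aˣ) (t : Ti) : D.w x * D.i t * (D.w x)⁻¹ = (D.C (D.χ t))⁻¹ * D.i t := by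
  have h : D.i t * D.w x * (D.i t)⁻¹ = D.C (D.χ t) * D.w x := (D.conj_w t x).trans (D.w_mul_left _ _)
  rw [mul_inv_eq_iff_eq_mul] at h ⊢
  rw [mul_assoc _ (D.i t), h]
  group

theorem w_mul_w (x y : Aˣ) : D.w x * D.w y = D.C (-(x * y⁻¹)) := by
  have h : D.w x = D.C (-(x * y⁻¹)) * D.w (-y) := by
    rw [← D.w_mul_left, neg_mul_neg, inv_mul_cancel_right]
  rw [h, D.w_neg, inv_mul_cancel_right]

theorem w_sq (x : Aˣ) : D.w x * D.w x = D.C (-1) := by rw [D.w_mul_w, mul_inv_cancel]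

/-- Conjugation of `u c` by a Weyl element, when `1 + c/x` is invertible. -/
theorem w_conj_u_of_isUnit (x z : Aˣ) (c : A) (h : (z : A) = 1 + c * (x⁻¹ : Aˣ)) :
    D.w x * D.u c * (D.w x)⁻¹ = D.v (-((x⁻¹ : Aˣ) * (x⁻¹ : Aˣ) * c)) := by
  have hz : (z : A) * (z⁻¹ : Aˣ) = 1 := z.mul_inv
  have hx : (x : A) * (x⁻¹ : Aˣ) = 1 := x.mul_inv
  have e1 : D.w x * D.u c * (D.w x)⁻¹ = D.u x * D.v (-(x⁻¹ : Aˣ)) * (D.u c * D.v (x⁻¹ : Aˣ)) * D.u (-x) := by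
    have hc : D.u c * D.u (x : A) = D.u x * D.u c := by rw [← D.u_add, ← D.u_add, add_comm]
    simp only [w, D.u_neg, D.v_neg, mul_inv_rev, inv_inv]
    calc D.u x * (D.v (x⁻¹ : Aˣ))⁻¹ * D.u x * D.u c * ((D.u x)⁻¹ * (D.v (x⁻¹ : Aˣ) * (D.u x)⁻¹))
        = D.u x * (D.v (x⁻¹ : Aˣ))⁻¹ * (D.u x * D.u c) * ((D.u x)⁻¹ * (D.v (x⁻¹ : Aˣ) * (D.u x)⁻¹)) := by
          group
      _ = _ := by rw [← hc]; group
  have e2 : ∀ p q r s t : P, D.u x * p * (q * r * s) * t = D.u x * (p * q) * r * (s * t) :=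
    fun p q r s t => by group
  set e : A := -(x⁻¹ : Aˣ) + (x⁻¹ : Aˣ) * (z⁻¹ : Aˣ) with he
  have hxe : ((z⁻¹ : Aˣ) : A) = 1 + x * e := by
    rw [he]; linear_combination (1 - ((z⁻¹ : Aˣ) : A)) * hx
  rw [e1, D.rule' c (x⁻¹ : Aˣ) z h, e2, ← D.v_add, ← D.u_add, D.rule' x e z⁻¹ hxe, inv_inv, map_inv]
  have e3 : ∀ p r : A, D.v p * (D.C z)⁻¹ * D.u (x * z) * D.C z * D.u r =
      D.v p * D.u ((z⁻¹ : Aˣ) * (z⁻¹ : Aˣ) * (x * z) + r) := by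
    intro p r
    rw [D.u_add]
    have := D.u_C z (x * z)
    calc D.v p * (D.C z)⁻¹ * D.u (x * z) * D.C z * D.u r
        = D.v p * ((D.C z)⁻¹ * (D.u (x * z) * D.C z)) * D.u r := by group
      _ = _ := by rw [this]; group
  rw [e3, show e * (z : A) = -((x⁻¹ : Aˣ) * (x⁻¹ : Aˣ) * c) by
      rw [he]; linear_combination (x⁻¹ : Aˣ) * hz - (x⁻¹ : Aˣ) * h,
    show (z⁻¹ : Aˣ) * (z⁻¹ : Aˣ) * ((x : A) * z) + (c * (z⁻¹ : Aˣ) + -x) = 0 by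
      linear_combination x * (z⁻¹ : Aˣ) * hz + x * hz - (c * (z⁻¹ : Aˣ)) * hx - x * (z⁻¹ : Aˣ) * h,
    D.u_zero, mul_one]

theorem vuv_eq_w {x : Aˣ} (h : D.w x * D.u x * (D.w x)⁻¹ = D.v (-(x⁻¹ : Aˣ))) :
    D.v (-(x⁻¹ : Aˣ)) * D.u x * D.v (-(x⁻¹ : Aˣ)) = D.w x := by
  rw [mul_inv_eq_iff_eq_mul] at h
  have : D.w x = D.u x * D.v (-(x⁻¹ : Aˣ)) * D.u x := rfl
  have h' : D.v (-(x⁻¹ : Aˣ)) * D.u x * D.v (-(x⁻¹ : Aˣ)) * D.u x = D.w x * D.u x := by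
    rw [h, this]; simp only [mul_assoc]
  exact mul_right_cancel h'

theorem wu_cube {x : Aˣ} (h : D.w x * D.u x * (D.w x)⁻¹ = D.v (-(x⁻¹ : Aˣ))) :
    D.w x * D.u x * (D.w x * D.u x) * (D.w x * D.u x) = 1 := by
  have hv := D.vuv_eq_w h
  rw [mul_inv_eq_iff_eq_mul] at h
  have hsq := D.w_sq x
  have c1 : ∀ a : A, D.C (-1) * D.u a = D.u a * D.C (-1) := fun a => by
    rw [D.C_u]; simp
  have c2 : ∀ a : A, D.C (-1) * D.v a = D.v a * D.C (-1) := fun a => by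
    rw [D.C_v]; simp
  calc D.w x * D.u x * (D.w x * D.u x) * (D.w x * D.u x)
      = D.v (-(x⁻¹ : Aˣ)) * D.w x * (D.w x * D.u x) * (D.w x * D.u x) := by nth_rewrite 1 [h]; rfl
    _ = D.v (-(x⁻¹ : Aˣ)) * (D.w x * D.w x) * (D.u x * D.w x) * D.u x := by group
    _ = D.v (-(x⁻¹ : Aˣ)) * (D.C (-1) * D.u x) * (D.w x * D.u x) := by rw [hsq]; group
    _ = D.v (-(x⁻¹ : Aˣ)) * D.u x * (D.C (-1) * D.v (-(x⁻¹ : Aˣ))) * D.w x := by rw [c1, h]; group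
    _ = D.v (-(x⁻¹ : Aˣ)) * D.u x * D.v (-(x⁻¹ : Aˣ)) * (D.C (-1) * D.w x) := by rw [c2]; group
    _ = D.w x * (D.w x * D.w x) * D.w x := by rw [hv, hsq]; group
    _ = (D.w x * D.w x) * (D.w x * D.w x) := by group
    _ = 1 := by rw [hsq, ← map_mul]; simp

end Datum

end GrothLib.RankOne
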