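import Mathlib.AlgebraicGeometry.Morphisms.Flat
import Mathlib.AlgebraicGeometry.Morphisms.UnderlyingMap
import Mathlib.RingTheory.Spectrum.Prime.IsOpenComapC
import Mathlib.RingTheory.Polynomial.Basic
import Mathlib.RingTheory.Localization.Away.Basic
import Mathlib.RingTheory.Spectrum.Prime.Topology

/-!
After a faithfully flat extension there is a function avoiding two given ones everywhere.
-/

universe u

open CategoryTheory CategoryTheory.Limits AlgebraicGeometry Polynomial

namespace GrothLib.RankOne

/-- Over a ring, a faithfully flat extension with an element avoiding two given ones. -/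
theorem exists_ring_cover (A : Type u) [CommRing A] (a b : A) :
    ∃ (A' : Type u) (_ : CommRing A') (φ : A →+* A') (t : A'), φ.Flat ∧
      Function.Surjective (PrimeSpectrum.comap φ) ∧ IsUnit (t - φ a) ∧ IsUnit (t - φ b) := by
  set p : A[X] := (X - C a) * (X - C b)
  refine ⟨Localization.Away p, inferInstance, algebraMap A (Localization.Away p),
    algebraMap A[X] (Localization.Away p) X, RingHom.flat_algebraMap_iff.mpr inferInstance, fun P => ?_, ?_, ?_⟩
  · have hm : p.Monic := (monic_X_sub_C a).mul (monic_X_sub_C b)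
    have hP : P ∈ AlgebraicGeometry.Polynomial.imageOfDf p :=
      ⟨p.natDegree, fun h => P.isPrime.ne_top ((Ideal.eq_top_iff_one _).mpr (by
        rwa [hm.coeff_natDegree] at h))⟩
    rw [AlgebraicGeometry.Polynomial.imageOfDf_eq_comap_C_compl_zeroLocus] at hP
    obtain ⟨Q, hQ, rfl⟩ := hP
    have hQ' : Q ∈ Set.range (PrimeSpectrum.comap (algebraMap A[X] (Localization.Away p))) := by
      rw [PrimeSpectrum.localization_away_comap_range _ p]
      exact fun h => hQ (Set.singleton_subset_iff.mpr h)
    obtain ⟨R, rfl⟩ := hQ'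
    exact ⟨R, rfl⟩
  all_goals
    have h : IsUnit (algebraMap A[X] (Localization.Away p) p) := IsLocalization.Away.algebraMap_isUnit p
    rw [map_mul] at h
  · have := isUnit_of_mul_isUnit_left h
    rwa [map_sub, ← Polynomial.algebraMap_eq, ← IsScalarTower.algebraMap_apply] at this
  · have := isUnit_of_mul_isUnit_right h
    rwa [map_sub, ← Polynomial.algebraMap_eq, ← IsScalarTower.algebraMap_apply] at this

/-- Over a scheme, an epimorphism after which a function avoids two given ones. -/
theorem exists_cover {S : Scheme.{u}} (Y : Over S) (a b : Γ(Y.left, ⊤)) :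
    ∃ (Y' : Over S) (h : Y' ⟶ Y), Epi h ∧ ∃ t : Γ(Y'.left, ⊤),
      IsUnit (t - h.left.appTop a) ∧ IsUnit (t - h.left.appTop b) := by
  obtain ⟨A', _, φ, t, hflat, hsurj, hta, htb⟩ := exists_ring_cover _ a b
  set q := Spec.map (CommRingCat.ofHom φ)
  haveI : Flat q := (HasRingHomProperty.Spec_iff (P := @Flat)).mpr hflat
  haveI : Surjective q := ⟨hsurj⟩
  haveI : Epi (pullback.fst Y.left.toSpecΓ q) := Flat.epi_of_flat_of_surjective _
  refine ⟨Over.mk (pullback.fst Y.left.toSpecΓ q ≫ Y.hom), Over.homMk (pullback.fst _ _) rfl, ?_, ?_⟩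
  · constructor
    intro Z f g hfg
    apply Over.OverMorphism.ext
    exact (cancel_epi (pullback.fst Y.left.toSpecΓ q)).mp (congrArg (fun k => k.left) hfg)
  · refine ⟨(pullback.snd Y.left.toSpecΓ q).appTop ((Scheme.ΓSpecIso (CommRingCat.of A')).inv t), ?_⟩
    have key : ∀ x : Γ(Y.left, ⊤), (pullback.fst Y.left.toSpecΓ q).appTop x =
        (pullback.snd Y.left.toSpecΓ q).appTop ((Scheme.ΓSpecIso (CommRingCat.of A')).inv (φ x)) := by
      intro x
      have h1 := congrArg (fun f => f.appTop.hom ((Scheme.ΓSpecIso Γ(Y.left, ⊤)).inv x))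
        (pullback.condition (f := Y.left.toSpecΓ) (g := q))
      simp only [Scheme.Hom.comp_appTop, CommRingCat.hom_comp, RingHom.comp_apply] at h1
      have h2 : Y.left.toSpecΓ.appTop.hom ((Scheme.ΓSpecIso Γ(Y.left, ⊤)).inv x) = x := by
        rw [Scheme.toSpecΓ_appTop]
        exact congrArg (fun f => f.hom x) (Scheme.ΓSpecIso Γ(Y.left, ⊤)).inv_hom_id
      have h3 : q.appTop.hom ((Scheme.ΓSpecIso Γ(Y.left, ⊤)).inv x) =
          (Scheme.ΓSpecIso (CommRingCat.of A')).inv (φ x) :=
        (congrArg (fun f => f.hom x) (Scheme.ΓSpecIso_inv_naturality (CommRingCat.ofHom φ))).symm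
      rw [h2, h3] at h1
      exact h1
    constructor
    · change IsUnit (_ - (pullback.fst Y.left.toSpecΓ q).appTop a)
      rw [key, ← map_sub, ← map_sub]
      exact (hta.map (Scheme.ΓSpecIso (CommRingCat.of A')).inv.hom).map _
    · change IsUnit (_ - (pullback.fst Y.left.toSpecΓ q).appTop b)
      rw [key, ← map_sub, ← map_sub]
      exact (htb.map (Scheme.ΓSpecIso (CommRingCat.of A')).inv.hom).map _

end GrothLib.RankOne
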