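import Groth.Agent.Lib.RedPts.Ga
import Groth.Agent.Lib.RankOne.Abstract
import Groth.Agent.Lib.RankOne.Cover
import Groth.Prelude.Def_GmPts

/-!
The rank-one commutation rule for group schemes, as a datum on the points over each scheme.
-/

universe u

open CategoryTheory CategoryTheory.Limits MonoidalCategory CartesianMonoidalCategory MonObj GrpObj AlgebraicGeometry

namespace GrothLib.RankOne

open GrothLib.RedPts

variable {S : Scheme.{u}} {G T : Over S} [GrpObj G] [GrpObj T]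

/-- Postcomposition with a homomorphism, as a homomorphism on points. -/
noncomputable def postHom {M N : Over S} [GrpObj M] [GrpObj N] (f : M ⟶ N) [IsMonHom f] (Y : Over S) :
    (Y ⟶ M) →* (Y ⟶ N) where
  toFun x := x ≫ f
  map_one' := MonObj.one_comp f
  map_mul' _ _ := MonObj.mul_comp _ _ f

/-- The hypotheses of the rank-one rows. -/
structure Hyp (i : T ⟶ G) (α : T ⟶ Red.Gm S) (pp pm : Red.Ga S ⟶ G) (av : Red.Gm S ⟶ T) : Prop where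
  monI : IsMonHom i
  monα : IsMonHom α
  monP : IsMonHom pp
  monM : IsMonHom pm
  monAv : IsMonHom av
  hpp : ∀ (X : Over S) (t : X ⟶ T) (x : X ⟶ Red.Ga S), ∃ x' : X ⟶ Red.Ga S,
    x' ≫ pp = (t ≫ i) * (x ≫ pp) * (t ≫ i)⁻¹ ∧ Red.gaFn x' = Red.gmFn (t ≫ α) * Red.gaFn x
  hpm : ∀ (X : Over S) (t : X ⟶ T) (y : X ⟶ Red.Ga S), ∃ y' : X ⟶ Red.Ga S,
    y' ≫ pm = (t ≫ i) * (y ≫ pm) * (t ≫ i)⁻¹ ∧ Red.gaFn y' * Red.gmFn (t ≫ α) = Red.gaFn y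
  h2 : av ≫ α = (𝟙 (Red.Gm S)) ^ 2
  hF : ∀ (X : Over S) (x y : X ⟶ Red.Ga S), IsUnit (1 + Red.gaFn x * Red.gaFn y) →
    ∃ (x' y' : X ⟶ Red.Ga S) (z : X ⟶ Red.Gm S), Red.gmFn z = 1 + Red.gaFn x * Red.gaFn y ∧
      Red.gaFn x' * Red.gmFn z = Red.gaFn x ∧ Red.gaFn y' * Red.gmFn z = Red.gaFn y ∧
      (x ≫ pp) * (y ≫ pm) = (y' ≫ pm) * (z ≫ av ≫ i) * (x' ≫ pp)

variable {i : T ⟶ G} {α : T ⟶ Red.Gm S} {pp pm : Red.Ga S ⟶ G} {av : Red.Gm S ⟶ T}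

/-- The datum on `Y`-points. -/
noncomputable def Hyp.datum (H : Hyp i α pp pm av) (Y : Over S) :
    Datum Γ(Y.left, ⊤) (Y ⟶ T) (Y ⟶ G) :=
  haveI := H.monI
  haveI := H.monα
  haveI := H.monP
  haveI := H.monM
  haveI := H.monAv
  { u := fun a => gaPt a ≫ pp
    v := fun a => gaPt a ≫ pm
    u_add := fun a b => by rw [gaPt_add, MonObj.mul_comp]
    v_add := fun a b => by rw [gaPt_add, MonObj.mul_comp]
    i := postHom i Y
    χ := (GmPts.equiv Y).toMonoidHom.comp (postHom α Y)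
    av := (postHom av Y).comp (GmPts.equiv Y).symm.toMonoidHom
    conjU := fun t a => by
      obtain ⟨x', h1, h2⟩ := H.hpp Y t (gaPt a)
      rw [gaFn_gaPt] at h2
      rw [show (postHom i Y) t = t ≫ i from rfl, ← h1]
      congr 1
      apply gaFn_injective
      rw [gaFn_gaPt]
      exact h2
    conjV := fun t a => by
      obtain ⟨y', h1, h2⟩ := H.hpm Y t (gaPt a)
      rw [gaFn_gaPt] at h2
      rw [show (postHom i Y) t = t ≫ i from rfl, ← h1]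
      congr 1
      apply gaFn_injective
      rw [gaFn_gaPt, ← h2, mul_comm (Red.gaFn y')]
      exact (Units.inv_mul_cancel_left (GmPts.unitOfPt (t ≫ α)) (Red.gaFn y')).symm
    χav := fun z => by
      apply Units.ext
      change Red.gmFn ((GmPts.ptOfUnit z ≫ av) ≫ α) = (z * z : Γ(Y.left, ⊤))
      rw [Category.assoc, H.h2, pow_two, MonObj.comp_mul, Category.comp_id, GmPts.gmFn_mul,
        GmPts.gmFn_ptOfUnit]
    rule := fun a b z hz => by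
      obtain ⟨x', y', z', hz', hx', hy', he⟩ := H.hF Y (gaPt a) (gaPt b) (by
        rw [gaFn_gaPt, gaFn_gaPt, ← hz]; exact z.isUnit)
      rw [gaFn_gaPt, gaFn_gaPt] at hz'
      rw [gaFn_gaPt] at hx' hy'
      have ez : z' = GmPts.ptOfUnit z := GmPts.gmFn_injective (by
        change Red.gmFn z' = Red.gmFn (GmPts.ptOfUnit z)
        rw [GmPts.gmFn_ptOfUnit, hz', hz])
      subst ez
      rw [GmPts.gmFn_ptOfUnit] at hx' hy'
      have ex : x' = gaPt (a * ((z⁻¹ : Units Γ(Y.left, ⊤)) : Γ(Y.left, ⊤))) := gaFn_injective (by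
        rw [gaFn_gaPt, ← hx', Units.mul_inv_cancel_right])
      have ey : y' = gaPt (b * ((z⁻¹ : Units Γ(Y.left, ⊤)) : Γ(Y.left, ⊤))) := gaFn_injective (by
        rw [gaFn_gaPt, ← hy', Units.mul_inv_cancel_right])
      subst ex ey
      rw [he]
      rfl }

variable (H : Hyp i α pp pm av) {Y : Over S}

theorem Hyp.u_eq (x : Y ⟶ Red.Ga S) : x ≫ pp = (H.datum Y).u (Red.gaFn x) :=
  congrArg (· ≫ pp) (gaFn_injective (gaFn_gaPt _).symm)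

theorem Hyp.v_eq (x : Y ⟶ Red.Ga S) : x ≫ pm = (H.datum Y).v (Red.gaFn x) :=
  congrArg (· ≫ pm) (gaFn_injective (gaFn_gaPt _).symm)

theorem Hyp.i_eq (t : Y ⟶ T) : t ≫ i = (H.datum Y).i t := rfl

theorem Hyp.χ_eq (t : Y ⟶ T) : Red.gmFn (t ≫ α) = (((H.datum Y).χ t : Units Γ(Y.left, ⊤)) : Γ(Y.left, ⊤)) := rfl

theorem Hyp.C_eq' (z : Y ⟶ Red.Gm S) : z ≫ av ≫ i = (H.datum Y).C (GmPts.unitOfPt z) := by
  change z ≫ av ≫ i = (GmPts.ptOfUnit (GmPts.unitOfPt z) ≫ av) ≫ i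
  rw [GmPts.ptOfUnit_unitOfPt, Category.assoc]

/-- A unit whose value is `-1/x` and the Weyl element. -/
theorem Hyp.w_eq (x x' : Y ⟶ Red.Ga S) (hx : Red.gaFn x' * Red.gaFn x = -1) :
    ∃ X : Units Γ(Y.left, ⊤), (X : Γ(Y.left, ⊤)) = Red.gaFn x ∧
      Red.gaFn x' = -((X⁻¹ : Units Γ(Y.left, ⊤)) : Γ(Y.left, ⊤)) ∧
      (x ≫ pp) * (x' ≫ pm) * (x ≫ pp) = (H.datum Y).w X := by
  refine ⟨⟨Red.gaFn x, -Red.gaFn x', ?_, ?_⟩, rfl, (neg_neg _).symm, ?_⟩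
  · rw [mul_neg, mul_comm, hx, neg_neg]
  · rw [neg_mul, hx, neg_neg]
  · rw [H.u_eq, H.v_eq, Datum.w]
    congr 2
    exact (congrArg (H.datum Y).v (neg_neg _)).symm

theorem Hyp.u_comp {Y' : Over S} (h : Y' ⟶ Y) (a : Γ(Y.left, ⊤)) :
    h ≫ (H.datum Y).u a = (H.datum Y').u (h.left.appTop a) := by
  change h ≫ gaPt a ≫ pp = gaPt _ ≫ pp
  rw [← Category.assoc]
  exact congrArg (· ≫ pp) (gaFn_injective (by rw [gaFn_comp, gaFn_gaPt, gaFn_gaPt]))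

theorem Hyp.v_comp {Y' : Over S} (h : Y' ⟶ Y) (a : Γ(Y.left, ⊤)) :
    h ≫ (H.datum Y).v a = (H.datum Y').v (h.left.appTop a) := by
  change h ≫ gaPt a ≫ pm = gaPt _ ≫ pm
  rw [← Category.assoc]
  exact congrArg (· ≫ pm) (gaFn_injective (by rw [gaFn_comp, gaFn_gaPt, gaFn_gaPt]))

/-- Conjugation of the positive subgroup by a Weyl element. -/
theorem Hyp.w_conj_u (x : Units Γ(Y.left, ⊤)) (c : Γ(Y.left, ⊤)) :
    (H.datum Y).w x * (H.datum Y).u c * ((H.datum Y).w x)⁻¹ =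
      (H.datum Y).v (-((x⁻¹ : Units Γ(Y.left, ⊤)) * (x⁻¹ : Units Γ(Y.left, ⊤)) * c)) := by
  set xi : Γ(Y.left, ⊤) := ((x⁻¹ : Units Γ(Y.left, ⊤)) : Γ(Y.left, ⊤)) with hxi
  obtain ⟨Y', h, hep, t, ht1, ht2⟩ := exists_cover Y (-1) (1 + c * xi)
  rw [← cancel_epi h]
  set f : Γ(Y.left, ⊤) →+* Γ(Y'.left, ⊤) := h.left.appTop.hom with hf
  set x₂ : Units Γ(Y'.left, ⊤) := Units.map (f : Γ(Y.left, ⊤) →* Γ(Y'.left, ⊤)) x with hx₂
  have hx' : (x₂ : Γ(Y'.left, ⊤)) = f x := rfl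
  have hxi' : ((x₂⁻¹ : Units Γ(Y'.left, ⊤)) : Γ(Y'.left, ⊤)) = f xi := rfl
  have hmul : (x₂ : Γ(Y'.left, ⊤)) * ((x₂⁻¹ : Units Γ(Y'.left, ⊤)) : Γ(Y'.left, ⊤)) = 1 := x₂.mul_inv
  rw [map_neg, map_one] at ht1
  replace ht2 : IsUnit (t - f (1 + c * xi)) := ht2
  rw [map_add, map_one, map_mul] at ht2
  simp only [Datum.w, MonObj.comp_mul, GrpObj.comp_inv, Hyp.u_comp, Hyp.v_comp]
  change (H.datum Y').u (f x) * (H.datum Y').v (f (-xi)) * (H.datum Y').u (f x) * (H.datum Y').u (f c) *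
    ((H.datum Y').u (f x) * (H.datum Y').v (f (-xi)) * (H.datum Y').u (f x))⁻¹ = (H.datum Y').v (f (-(xi * xi * c)))
  rw [map_neg f xi, map_neg f (xi * xi * c), map_mul, map_mul, ← hx', ← hxi']
  rw [← hxi'] at ht2
  change (H.datum Y').w x₂ * (H.datum Y').u (f c) * ((H.datum Y').w x₂)⁻¹ = _
  set D := H.datum Y'
  set xi₂ : Γ(Y'.left, ⊤) := ((x₂⁻¹ : Units Γ(Y'.left, ⊤)) : Γ(Y'.left, ⊤))
  obtain ⟨z₁, hz₁⟩ := ht1
  obtain ⟨z₂, hz₂⟩ := ht2.neg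
  have k1 := D.w_conj_u_of_isUnit x₂ z₁ ((x₂ : Γ(Y'.left, ⊤)) * t) (by
    rw [hz₁]; linear_combination -t * hmul)
  have k2 := D.w_conj_u_of_isUnit x₂ z₂ (f c - (x₂ : Γ(Y'.left, ⊤)) * t) (by
    rw [hz₂]; linear_combination t * hmul)
  calc D.w x₂ * D.u (f c) * (D.w x₂)⁻¹
      = (D.w x₂ * D.u ((x₂ : Γ(Y'.left, ⊤)) * t) * (D.w x₂)⁻¹) *
        (D.w x₂ * D.u (f c - (x₂ : Γ(Y'.left, ⊤)) * t) * (D.w x₂)⁻¹) := by
        conv_lhs => rw [show f c = (x₂ : Γ(Y'.left, ⊤)) * t + (f c - (x₂ : Γ(Y'.left, ⊤)) * t) by ring, D.u_add]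
        group
    _ = _ := by rw [k1, k2, ← D.v_add]; congr 1; ring

end GrothLib.RankOne
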